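import Groth.Agent.Lib.FlatH4.FlatAt
import Mathlib.RingTheory.Flat.EquationalCriterion
import Mathlib.LinearAlgebra.Matrix.NonsingularInverse
import Mathlib.RingTheory.IsTensorProduct
import Mathlib.RingTheory.HopkinsLevitzki
import Mathlib.LinearAlgebra.Dual.Lemmas
import Mathlib.LinearAlgebra.Basis.VectorSpace

/-!
# Descent of flatness at a prime over an Artinian local ring by a separating family
-/

set_option autoImplicit false
set_option maxHeartbeats 400000

universe u

open TensorProduct IsLocalRing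

namespace Groth.Agent.FlatDesc5

section Localized

variable {T : Type u} [CommRing T] (S : Submonoid T) {P P' : Type u} [AddCommGroup P] [Module T P]
  [AddCommGroup P'] [Module T P'] (g : P →ₗ[T] P') [IsLocalizedModule S g]

/-- An element lying in `I P'` comes, up to a denominator, from `I P`. -/
theorem exists_smul_eq_of_mem_smul_top {A : Type u} [CommRing A] [Algebra A T] [Module A P] [IsScalarTower A T P]
    [Module A P'] [IsScalarTower A T P'] (I : Ideal A) {y : P'} (hy : y ∈ I • (⊤ : Submodule A P')) :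
    ∃ s ∈ S, ∃ p ∈ I • (⊤ : Submodule A P), (s : T) • y = g p := by
  refine Submodule.smul_induction_on hy (fun a ha z _ => ?_) ?_
  · obtain ⟨⟨p, s⟩, hs⟩ := IsLocalizedModule.surj S g z
    refine ⟨s, s.2, a • p, Submodule.smul_mem_smul ha trivial, ?_⟩
    rw [LinearMap.map_smul_of_tower, ← hs, ← smul_comm]
    rfl
  · rintro y₁ y₂ ⟨s₁, hs₁, p₁, hp₁, e₁⟩ ⟨s₂, hs₂, p₂, hp₂, e₂⟩
    have hmem : ∀ (s : T) (p : P), p ∈ I • (⊤ : Submodule A P) → s • p ∈ I • (⊤ : Submodule A P) := by
      intro s p hp
      refine Submodule.smul_induction_on hp (fun a ha z _ => ?_) fun u v hu hv => by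
        rw [smul_add]; exact add_mem hu hv
      rw [smul_comm]
      exact Submodule.smul_mem_smul ha trivial
    refine ⟨s₁ * s₂, S.mul_mem hs₁ hs₂, s₂ • p₁ + s₁ • p₂, add_mem (hmem _ _ hp₁) (hmem _ _ hp₂), ?_⟩
    rw [map_add, map_smul, map_smul, ← e₁, ← e₂, smul_add, ← mul_smul, ← mul_smul, mul_comm s₂ s₁]


/-- A section in `I` after localizing at a prime is in `I` after multiplying outside the prime. -/
theorem exists_notMem_smul_mem {A : Type u} [CommRing A] [Algebra A T] [Module A P] [IsScalarTower A T P]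
    (Q : Ideal T) [Q.IsPrime] (I : Ideal A) (z : P)
    (hz : LocalizedModule.mkLinearMap Q.primeCompl P z ∈
      I • (⊤ : Submodule A (LocalizedModule Q.primeCompl P))) :
    ∃ t ∉ Q, t • z ∈ I • (⊤ : Submodule A P) := by
  obtain ⟨s, hs, p, hp, hsp⟩ := exists_smul_eq_of_mem_smul_top Q.primeCompl
    (LocalizedModule.mkLinearMap Q.primeCompl P) I hz
  rw [← map_smul] at hsp
  obtain ⟨⟨s', hs'⟩, he⟩ := (IsLocalizedModule.eq_iff_exists Q.primeCompl _).1 hsp
  refine ⟨s' * s, fun h => (Ideal.IsPrime.mem_or_mem ‹_› h).elim hs' hs, ?_⟩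
  rw [mul_smul, show s' • s • z = s' • p from he]
  refine Submodule.smul_induction_on hp (fun c hc w _ => ?_) fun u v hu hv => by
    rw [smul_add]; exact add_mem hu hv
  rw [smul_comm]
  exact Submodule.smul_mem_smul hc trivial

end Localized

/-- In a flat module over a local ring, a relation is zero if its vectors of coefficients are
independent modulo the maximal ideal in all members of a family of flat modules. -/
theorem eq_zero_of_flat_family {B : Type u} [CommRing B] [IsLocalRing B] {κ : Type u} [Fintype κ]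
    [DecidableEq κ] {𝒬 : Type u} (P : 𝒬 → Type u) [∀ Q, AddCommGroup (P Q)] [∀ Q, Module B (P Q)]
    [∀ Q, Module.Flat B (P Q)] (θ : ∀ Q, κ → P Q) (c : κ → B) (hc : ∀ Q, ∑ b, c b • θ Q b = 0)
    (hind : ∀ l : κ → B, (∀ Q, ∑ b, l b • θ Q b ∈ maximalIdeal B • (⊤ : Submodule B (P Q))) →
      ∀ b, l b ∈ maximalIdeal B) :
    c = 0 := by
  classical
  let R : Submodule B (κ → B) := LinearMap.ker (Fintype.linearCombination B c)
  have hR : ∀ r : κ → B, r ∈ R ↔ ∑ b, r b * c b = 0 := fun r => by
    simp [R, Fintype.linearCombination_apply]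
  let k := ResidueField B
  let π : (κ → B) →ₗ[B] (κ → k) := (Algebra.linearMap B k).compLeft κ
  have hπ : ∀ r b, π r b = residue B (r b) := fun _ _ => rfl
  let Rb : Submodule k (κ → k) :=
    { carrier := π '' R
      zero_mem' := ⟨0, zero_mem _, map_zero _⟩
      add_mem' := by
        rintro _ _ ⟨a, ha, rfl⟩ ⟨b, hb, rfl⟩
        exact ⟨a + b, add_mem ha hb, map_add _ _ _⟩
      smul_mem' := by
        rintro a _ ⟨r, hr, rfl⟩
        obtain ⟨a, rfl⟩ := residue_surjective a
        exact ⟨a • r, R.smul_mem a hr, funext fun b => by simp [hπ]⟩ }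
  have htop : Rb = ⊤ := by
    by_contra hne
    obtain ⟨f, hf0, hf⟩ := Submodule.exists_dual_map_eq_bot_of_lt_top (lt_top_iff_ne_top.2 hne) inferInstance
    choose l hl using fun b => residue_surjective (f (Pi.single b 1))
    apply hf0
    have hfv : ∀ v : κ → k, f v = ∑ b, v b * residue B (l b) := by
      intro v
      conv_lhs => rw [pi_eq_sum_univ' v]
      simp [hl]
    have hzero : ∀ b, l b ∈ maximalIdeal B := by
      refine hind l fun Q => ?_
      obtain ⟨n, d, y, hy, hd⟩ := Module.Flat.isTrivialRelation_of_sum_smul_eq_zero (hc Q)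
      have : ∑ b, l b • θ Q b = ∑ j, (∑ b, l b * d b j) • y j := by
        simp_rw [hy, Finset.smul_sum, ← mul_smul, Finset.sum_smul]
        rw [Finset.sum_comm]
      rw [this]
      refine sum_mem fun j _ => Submodule.smul_mem_smul ?_ trivial
      have hmem : π (fun b => d b j) ∈ Rb := ⟨_, (hR _).2 (by
        rw [← hd j]; exact Finset.sum_congr rfl fun b _ => mul_comm _ _), rfl⟩
      have hker : f (π fun b => d b j) = 0 := by
        have := Submodule.mem_map_of_mem (f := f) hmem
        rwa [hf, Submodule.mem_bot] at this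
      rw [← residue_eq_zero_iff, map_sum, ← hker, hfv]
      exact Finset.sum_congr rfl fun b _ => by rw [map_mul, mul_comm]; rfl
    refine LinearMap.ext fun v => ?_
    rw [hfv]
    refine Finset.sum_eq_zero fun b _ => ?_
    rw [(residue_eq_zero_iff _).2 (hzero b), mul_zero]
  -- relations congruent to the unit vectors
  choose r hr hrπ using fun b : κ => (htop.ge (Submodule.mem_top (x := (Pi.single b 1 : κ → k))) :
    Pi.single b (1 : k) ∈ π '' R)
  let D : Matrix κ κ B := Matrix.of fun i b => r b i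
  have hD : IsUnit D.det := by
    rw [← residue_ne_zero_iff_isUnit, RingHom.map_det]
    rw [show (residue B).mapMatrix D = 1 from ?_, Matrix.det_one]
    · exact one_ne_zero
    · ext i b
      show residue B (r b i) = _
      rw [← hπ, hrπ, Matrix.one_apply, Pi.single_apply]
  have hcD : Matrix.vecMul c D = 0 := funext fun b => by
    show ∑ i, c i * r b i = 0
    rw [← (hR _).1 (hr b)]
    exact Finset.sum_congr rfl fun i _ => mul_comm _ _
  have h1 := congrArg (fun v => Matrix.vecMul v D⁻¹) hcD
  simpa [Matrix.vecMul_vecMul, Matrix.mul_nonsing_inv D hD] using h1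

section Main

variable {A : Type u} [CommRing A] [IsArtinianRing A] [IsLocalRing A] {T : Type u} [CommRing T] [Algebra A T]
  [IsNoetherianRing T] {M : Type u} [AddCommGroup M] [Module A M] [Module T M] [IsScalarTower A T M]
  [Module.Finite T M] (q : Ideal T) [q.IsPrime]

/-- Linearly independent residues stay independent modulo a power of the maximal ideal. -/
theorem exists_pow_independent {Tq : Type u} [CommRing Tq] [IsLocalRing Tq] [IsNoetherianRing Tq]
    [Algebra A Tq] {N : Type u} [AddCommGroup N] [Module A N] [Module Tq N] [IsScalarTower A Tq N]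
    [Module.Finite Tq N] {κ : Type u} [Fintype κ] (e : κ → N)
    (he : ∀ a : κ → A, ∑ b, a b • e b ∈ maximalIdeal A • (⊤ : Submodule A N) →
      ∀ b, a b ∈ maximalIdeal A) :
    ∃ n : ℕ, ∀ a : κ → A,
      ∑ b, a b • e b ∈ ((maximalIdeal A).map (algebraMap A Tq) ⊔ maximalIdeal Tq ^ n) • (⊤ : Submodule Tq N) →
      ∀ b, a b ∈ maximalIdeal A := by
  let mT := (maximalIdeal A).map (algebraMap A Tq)
  let K : ℕ → Submodule Tq N := fun n => (mT ⊔ maximalIdeal Tq ^ n) • ⊤
  let E : (κ → A) →ₗ[A] N := Fintype.linearCombination A e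
  have hE : ∀ a, E a = ∑ b, a b • e b := fun a => Fintype.linearCombination_apply _ _ _
  have hKmono : ∀ n n' : ℕ, n ≤ n' → K n' ≤ K n := fun n n' h =>
    Submodule.smul_mono_left (sup_le_sup_left (Ideal.pow_le_pow_right h) mT)
  let C : ℕ → Submodule A (κ → A) := fun n => ((K n).restrictScalars A).comap E
  have hC : ∀ n n' : ℕ, n ≤ n' → C n' ≤ C n := fun n n' h x hx => hKmono n n' h hx
  let f : ℕ →o (Submodule A (κ → A))ᵒᵈ := ⟨fun n => OrderDual.toDual (C n), fun n n' h => hC n n' h⟩
  obtain ⟨n, hn⟩ := IsArtinian.monotone_stabilizes f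
  refine ⟨n, fun a ha => he a ?_⟩
  have hall : ∀ j, E a ∈ K j := by
    intro j
    rcases le_total n j with h | h
    · have h1 : C n = C j := congrArg OrderDual.ofDual (hn j h)
      have h2 : a ∈ C n := by
        show E a ∈ K n
        rw [hE]; exact ha
      rw [h1] at h2
      exact h2
    · exact hKmono j n h (by rw [hE]; exact ha)
  have hbot : (Submodule.Quotient.mk (E a) : N ⧸ mT • (⊤ : Submodule Tq N)) = 0 := by
    have : (Submodule.Quotient.mk (E a) : N ⧸ mT • (⊤ : Submodule Tq N)) ∈
        (⨅ j : ℕ, maximalIdeal Tq ^ j • ⊤ : Submodule Tq (N ⧸ mT • (⊤ : Submodule Tq N))) := by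
      rw [Submodule.mem_iInf]
      intro j
      have h3 := hall j
      rw [show K j = mT • ⊤ ⊔ maximalIdeal Tq ^ j • ⊤ from Submodule.sup_smul _ _ _] at h3
      obtain ⟨v, hv, w, hw, hvw⟩ := Submodule.mem_sup.1 h3
      rw [← hvw, Submodule.Quotient.mk_add, (Submodule.Quotient.mk_eq_zero _).2 hv, zero_add]
      have := Submodule.mem_map_of_mem (f := (mT • (⊤ : Submodule Tq N)).mkQ) hw
      rw [Submodule.map_smul'', Submodule.map_top, Submodule.range_mkQ] at this
      exact this
    rwa [Ideal.iInf_pow_smul_eq_bot_of_isLocalRing _ (maximalIdeal.isMaximal Tq).ne_top, Submodule.mem_bot] at this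
  rw [Submodule.Quotient.mk_eq_zero] at hbot
  have h4 := Ideal.smul_restrictScalars (S := Tq) (maximalIdeal A) (⊤ : Submodule Tq N)
  rw [Submodule.restrictScalars_top] at h4
  rw [← hE, ← h4]
  exact hbot

variable {ι : Type u} (A' : ι → Type u) [∀ i, CommRing (A' i)] [∀ i, IsLocalRing (A' i)]
  [∀ i, Algebra A (A' i)] (T' : ι → Type u) [∀ i, CommRing (T' i)] [∀ i, Algebra T (T' i)]
  [∀ i, Algebra (A' i) (T' i)] [∀ i, Algebra A (T' i)] [∀ i, IsScalarTower A (A' i) (T' i)]
  [∀ i, IsScalarTower A T (T' i)] [∀ i, Algebra.IsPushout A (A' i) T (T' i)]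

/-- The relation vanishes after each member. -/
theorem map_coeff_eq_zero {Tq : Type u} [CommRing Tq] [IsLocalRing Tq] [IsNoetherianRing Tq] [Algebra T Tq]
    [IsLocalization.AtPrime Tq q] [Algebra A Tq] [IsScalarTower A T Tq] {N : Type u} [AddCommGroup N]
    [Module A N] [Module T N] [Module Tq N] [IsScalarTower A T N] [IsScalarTower A Tq N]
    [IsScalarTower T Tq N] [Module.Finite Tq N] (g : M →ₗ[T] N)
    (hflat : ∀ i (Q : Ideal (T' i)) [Q.IsPrime], Q.comap (algebraMap T (T' i)) = q →
      Q.comap (algebraMap (A' i) (T' i)) = maximalIdeal (A' i) →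
      Module.Flat (A' i) (LocalizedModule Q.primeCompl (T' i ⊗[T] M)))
    {κ : Type u} [Fintype κ] [DecidableEq κ] (m : κ → M)
    (hm : ∀ a : κ → A, g (∑ b, a b • m b) ∈
      maximalIdeal A • (⊤ : Submodule A N) → ∀ b, a b ∈ maximalIdeal A)
    (a : κ → A) (ha : ∑ b, a b • m b = 0) (i : ι) :
    (fun b => algebraMap A (A' i) (a b)) = 0 := by
  classical
  let B := A' i
  let T₁ := T' i
  let P := T₁ ⊗[T] M
  let 𝒬 := {Q : PrimeSpectrum T₁ // Q.asIdeal.comap (algebraMap T T₁) = q ∧
    Q.asIdeal.comap (algebraMap B T₁) = maximalIdeal B}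
  haveI : ∀ Q : 𝒬, Module.Flat B (LocalizedModule Q.1.asIdeal.primeCompl P) :=
    fun Q => hflat i Q.1.asIdeal Q.2.1 Q.2.2
  refine eq_zero_of_flat_family (fun Q : 𝒬 => LocalizedModule Q.1.asIdeal.primeCompl P)
    (fun Q b => LocalizedModule.mkLinearMap Q.1.asIdeal.primeCompl P ((1 : T₁) ⊗ₜ[T] m b)) _ (fun Q => ?_) ?_
  · have h0 : ∑ b, algebraMap A B (a b) • ((1 : T₁) ⊗ₜ[T] m b) = 0 := by
      rw [← TensorProduct.tmul_zero M (1 : T₁), ← ha, TensorProduct.tmul_sum]
      exact Finset.sum_congr rfl fun b _ => by rw [algebraMap_smul, TensorProduct.tmul_smul]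
    rw [← map_zero (LocalizedModule.mkLinearMap Q.1.asIdeal.primeCompl P), ← h0, map_sum]
    exact Finset.sum_congr rfl fun b _ => (LinearMap.map_smul_of_tower _ _ _).symm
  intro l hl
  let z : P := ∑ b, l b • ((1 : T₁) ⊗ₜ[T] m b)
  let IP : Submodule B P := maximalIdeal B • ⊤
  -- the conductor
  have hIP : ∀ (t : T₁) (p : P), p ∈ IP → t • p ∈ IP := by
    intro t p hp
    refine Submodule.smul_induction_on hp (fun c hc w _ => ?_) fun u v hu hv => by
      rw [smul_add]; exact add_mem hu hv
    rw [smul_comm]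
    exact Submodule.smul_mem_smul hc trivial
  let I : Ideal T₁ :=
    { carrier := {t | t • z ∈ IP}
      zero_mem' := by simp
      add_mem' := fun {u v} hu hv => by show (u + v) • z ∈ IP; rw [add_smul]; exact add_mem hu hv
      smul_mem' := fun c u hu => by show (c * u) • z ∈ IP; rw [mul_smul]; exact hIP c _ hu }
  have hBI : (maximalIdeal B).map (algebraMap B T₁) ≤ I := Ideal.map_le_iff_le_comap.2 fun c hc => by
    show algebraMap B T₁ c • z ∈ IP
    rw [algebraMap_smul]
    exact Submodule.smul_mem_smul hc trivial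
  have hI : ∀ Q : 𝒬, ¬ I ≤ Q.1.asIdeal := by
    intro Q hQ
    have h1 : LocalizedModule.mkLinearMap Q.1.asIdeal.primeCompl P z ∈
        maximalIdeal B • (⊤ : Submodule B (LocalizedModule Q.1.asIdeal.primeCompl P)) := by
      rw [map_sum]
      simp_rw [LinearMap.map_smul_of_tower]
      exact hl Q
    obtain ⟨t, ht, htz⟩ := exists_notMem_smul_mem Q.1.asIdeal (maximalIdeal B) z h1
    exact ht (hQ htz)
  obtain ⟨s, hsq, v, hv, r, hr, hvr⟩ : ∃ s ∉ q, ∃ v ∈ I, ∃ r ∈ q.map (algebraMap T T₁), v + r = algebraMap T T₁ s := by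
    by_contra hne
    push Not at hne
    have hdis : Disjoint ((I ⊔ q.map (algebraMap T T₁) : Ideal T₁) : Set T₁)
        ((Algebra.algebraMapSubmonoid T₁ q.primeCompl : Submonoid T₁) : Set T₁) := by
      rw [Set.disjoint_left]
      rintro _ ht ⟨s, hs, rfl⟩
      obtain ⟨v, hv, r, hr, e⟩ := Submodule.mem_sup.1 ht
      exact hne s hs v hv r hr e
    obtain ⟨Q, hQ, hle, hd⟩ := Ideal.exists_le_prime_disjoint _ _ hdis
    haveI := hQ
    have h1 : Q.comap (algebraMap T T₁) = q := le_antisymm
      (fun t ht => by_contra fun htq => Set.disjoint_left.1 hd ht ⟨t, htq, rfl⟩)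
      (Ideal.map_le_iff_le_comap.1 (le_sup_right.trans hle))
    have h2 : Q.comap (algebraMap B T₁) = maximalIdeal B :=
      ((maximalIdeal.isMaximal B).eq_of_le (Ideal.IsPrime.ne_top inferInstance)
        (Ideal.map_le_iff_le_comap.1 (hBI.trans (le_sup_left.trans hle)))).symm
    exact hI ⟨⟨Q, hQ⟩, h1, h2⟩ (le_sup_left.trans hle)
  obtain ⟨n, hn⟩ := exists_pow_independent (Tq := Tq) (fun b => g (m b))
    (fun a' ha' => hm a' (by
      rw [map_sum]
      simp_rw [LinearMap.map_smul_of_tower]
      exact ha'))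
  let Kn : Submodule A N := (((maximalIdeal A).map (algebraMap A Tq) ⊔ maximalIdeal Tq ^ n) •
    (⊤ : Submodule Tq N)).restrictScalars A
  let Nn := N ⧸ Kn
  have hmN : ∀ (c : A), c ∈ maximalIdeal A → ∀ y : Nn, c • y = 0 := by
    intro c hc y
    obtain ⟨y, rfl⟩ := Submodule.Quotient.mk_surjective Kn y
    rw [← Submodule.Quotient.mk_smul, Submodule.Quotient.mk_eq_zero]
    show c • y ∈ _ • (⊤ : Submodule Tq N)
    rw [← algebraMap_smul Tq c y]
    exact Submodule.smul_mem_smul (Submodule.mem_sup_left (Ideal.mem_map_of_mem _ hc)) trivial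
  have htor : Module.IsTorsionBySet A Nn (maximalIdeal A : Set A) := fun y c => hmN c c.2 y
  let k := ResidueField A
  letI : Module k Nn := htor.module
  haveI : IsScalarTower A k Nn := htor.isScalarTower
  let Φ : (κ → k) →ₗ[k] Nn := Fintype.linearCombination k
    fun b => Submodule.Quotient.mk (g (m b))
  have hΦ : LinearMap.ker Φ = ⊥ := by
    rw [LinearMap.ker_eq_bot']
    intro w hw
    choose a' ha' using fun b => residue_surjective (w b)
    have h0 : ∑ b, a' b • g (m b) ∈ Kn := by
      rw [← Submodule.Quotient.mk_eq_zero Kn, ← Submodule.mkQ_apply, map_sum]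
      rw [Fintype.linearCombination_apply] at hw
      rw [← hw]
      refine Finset.sum_congr rfl fun b _ => ?_
      rw [← ha' b, LinearMap.map_smul]
      rfl
    funext b
    rw [← ha' b]
    exact (residue_eq_zero_iff _).2 (hn a' h0 b)
  obtain ⟨L, hL⟩ := Φ.exists_leftInverse_of_injective hΦ
  intro b₀
  -- the functional
  let σ : N →ₗ[A] N := (algebraMap Tq (Module.End Tq N)
    (IsLocalization.mk' Tq (1 : T) (⟨s ^ n, fun h => hsq (Ideal.IsPrime.mem_of_pow_mem ‹q.IsPrime› n h)⟩ : q.primeCompl))).restrictScalars A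
  let Λ : M →ₗ[A] k := ((LinearMap.proj b₀).comp L).restrictScalars A ∘ₗ Kn.mkQ ∘ₗ σ ∘ₗ
    (g).restrictScalars A
  haveI : (RingHom.ker ((residue B).comp (algebraMap A B))).IsPrime := RingHom.ker_isPrime _
  have hk : maximalIdeal A ≤ RingHom.ker ((residue B).comp (algebraMap A B)) :=
    (eq_maximalIdeal (IsArtinianRing.isMaximal_of_isPrime _)).ge
  let ιk : k →ₗ[A] ResidueField B :=
    { toFun := Ideal.Quotient.lift _ ((residue B).comp (algebraMap A B)) fun c hc => hk hc
      map_add' := map_add _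
      map_smul' := fun c w => by
        obtain ⟨w, rfl⟩ := residue_surjective w
        show ((residue B).comp (algebraMap A B)) (c * w) = c • ((residue B).comp (algebraMap A B)) w
        rw [map_mul, Algebra.smul_def]
        rfl }
  let ΨB : B ⊗[A] M →ₗ[B] ResidueField B := TensorProduct.AlgebraTensorModule.lift
    (LinearMap.toSpanSingleton B (M →ₗ[A] ResidueField B) (ιk.comp Λ))
  let c := Algebra.IsPushout.cancelBaseChange A B T T₁ M
  let Ψ : P →ₗ[B] ResidueField B := ΨB.comp c.toLinearMap
  have hΨ : ∀ (w : B) (x : M), Ψ (w • ((1 : T₁) ⊗ₜ[T] x)) = w • ιk (Λ x) := by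
    intro w x
    rw [map_smul]
    show w • ΨB (c ((1 : T₁) ⊗ₜ[T] x)) = _
    rw [Algebra.IsPushout.cancelBaseChange_tmul]
    simp [ΨB]
  have hspan : ∀ p : P, ∃ S : Finset (B × M), p = ∑ j ∈ S, j.1 • ((1 : T₁) ⊗ₜ[T] j.2) := by
    intro p
    obtain ⟨S, hS⟩ := TensorProduct.exists_finset (R := A) (c p)
    refine ⟨S, c.injective ?_⟩
    rw [hS, map_sum]
    exact Finset.sum_congr rfl fun j _ => by
      rw [map_smul, Algebra.IsPushout.cancelBaseChange_tmul, TensorProduct.smul_tmul', smul_eq_mul, mul_one]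
  have hIP0 : ∀ p ∈ IP, Ψ p = 0 := by
    intro p hp
    refine Submodule.smul_induction_on hp (fun w hw y _ => ?_) fun u v hu hv => by rw [map_add, hu, hv, add_zero]
    rw [map_smul, Algebra.smul_def]
    show residue B w * _ = 0
    rw [(residue_eq_zero_iff w).2 hw, zero_mul]
  have hΛq : ∀ (t : T), t ∈ q ^ n → ∀ x : M, Λ (t • x) = 0 := by
    intro t ht x
    have h1 : σ (g (t • x)) ∈ Kn := by
      show _ ∈ _ • (⊤ : Submodule Tq N)
      rw [map_smul, ← algebraMap_smul Tq t (g x)]
      show (_ : Tq) • (algebraMap T Tq t • g x) ∈ _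
      refine Submodule.smul_mem _ _ (Submodule.smul_mem_smul (Submodule.mem_sup_right ?_) trivial)
      rw [← IsLocalization.AtPrime.map_eq_maximalIdeal q Tq, ← Ideal.map_pow]
      exact Ideal.mem_map_of_mem _ ht
    show ((LinearMap.proj b₀).comp L) (Submodule.Quotient.mk _) = 0
    exact (congrArg _ ((Submodule.Quotient.mk_eq_zero Kn).2 h1)).trans (map_zero _)
  have hq0 : ∀ p : P, Ψ (r ^ n • p) = 0 := by
    have hrn : r ^ n ∈ (q ^ n).map (algebraMap T T₁) := by
      rw [Ideal.map_pow]; exact Ideal.pow_mem_pow hr n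
    intro p
    refine Submodule.span_induction (p := fun t _ => ∀ p : P, Ψ (t • p) = 0) ?_ ?_ ?_ ?_ hrn p
    · rintro _ ⟨t, ht, rfl⟩ p
      obtain ⟨S, rfl⟩ := hspan p
      rw [Finset.smul_sum, map_sum]
      refine Finset.sum_eq_zero fun j _ => ?_
      rw [smul_comm, algebraMap_smul, ← TensorProduct.tmul_smul, hΨ, hΛq t ht, map_zero, smul_zero]
    · intro p; rw [zero_smul, map_zero]
    · intro u v _ _ hu hv p; rw [add_smul, map_add, hu, hv, add_zero]
    · intro w t _ ht p; rw [smul_eq_mul, mul_comm, mul_smul]; exact ht _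
  have hpow : algebraMap T T₁ s ^ n - r ^ n ∈ I :=
    Ideal.mem_of_dvd _ (sub_dvd_pow_sub_pow _ _ n) (by rw [← hvr, add_sub_cancel_right]; exact hv)
  have hz : Ψ (algebraMap T T₁ s ^ n • z) = 0 := by
    have h0 := hIP0 _ hpow
    have h1 : Ψ (algebraMap T T₁ s ^ n • z) = Ψ (r ^ n • z) := by
      rw [← sub_eq_zero, ← map_sub]
      refine Eq.trans (congrArg Ψ ?_) h0
      exact (sub_smul _ _ z).symm
    rw [h1, hq0]
  have hΛm : ∀ b, Λ (s ^ n • m b) = if b₀ = b then 1 else 0 := by
    intro b
    have h1 : σ (g (s ^ n • m b)) =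
        g (m b) := by
      rw [map_smul, ← algebraMap_smul Tq (s ^ n) (g (m b))]
      show (_ : Tq) • (algebraMap T Tq (s ^ n) • g (m b)) = _
      rw [← mul_smul, IsLocalization.mk'_spec' (S := Tq) (1 : T) ⟨s ^ n, _⟩ |> (mul_comm _ _).trans, map_one, one_smul]
    show L (Submodule.Quotient.mk (σ (g (s ^ n • m b)))) b₀ = _
    rw [h1]
    have h2 : Φ (Pi.single b 1) = Submodule.Quotient.mk (g (m b)) := by
      rw [Fintype.linearCombination_apply_single, one_smul]
    rw [← h2, show L (Φ (Pi.single b 1)) = Pi.single b 1 from LinearMap.congr_fun hL _, Pi.single_apply]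
  rw [Finset.smul_sum, map_sum] at hz
  have key : ∀ b, Ψ (algebraMap T T₁ s ^ n • (l b • ((1 : T₁) ⊗ₜ[T] m b))) =
      l b • ιk (if b₀ = b then 1 else 0) := fun b => by
    have e2 : algebraMap T T₁ s ^ n • ((1 : T₁) ⊗ₜ[T] m b) = (1 : T₁) ⊗ₜ[T] (s ^ n • m b) := by
      rw [← map_pow, algebraMap_smul, TensorProduct.tmul_smul]
    rw [smul_comm, e2, hΨ, hΛm]
  rw [Finset.sum_congr rfl fun b _ => key b] at hz
  rw [← residue_eq_zero_iff, ← hz, Finset.sum_eq_single b₀]
  · rw [if_pos rfl, show ιk 1 = 1 from map_one (Ideal.Quotient.lift _ ((residue B).comp (algebraMap A B)) fun c hc => hk hc),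
      Algebra.smul_def, mul_one]
    rfl
  · intro b _ hb
    rw [if_neg (Ne.symm hb), map_zero, smul_zero]
  · simp

/-- Descent of flatness at a prime over an Artinian local ring. -/
theorem flat_localized_of_family (hsep : ∀ a : A, (∀ i, algebraMap A (A' i) a = 0) → a = 0)
    (hflat : ∀ i (Q : Ideal (T' i)) [Q.IsPrime], Q.comap (algebraMap T (T' i)) = q →
      Q.comap (algebraMap (A' i) (T' i)) = maximalIdeal (A' i) →
      Module.Flat (A' i) (LocalizedModule Q.primeCompl (T' i ⊗[T] M))) :
    Module.Flat A (LocalizedModule q.primeCompl M) := by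
  classical
  let N := LocalizedModule q.primeCompl M
  let mA : Submodule A N := maximalIdeal A • ⊤
  have htor : Module.IsTorsionBySet A (N ⧸ mA) (maximalIdeal A : Set A) := fun y c => by
    obtain ⟨y, rfl⟩ := Submodule.Quotient.mk_surjective mA y
    rw [← Submodule.Quotient.mk_smul, Submodule.Quotient.mk_eq_zero]
    exact Submodule.smul_mem_smul c.2 trivial
  let k := ResidueField A
  letI : Module k (N ⧸ mA) := htor.module
  haveI : IsScalarTower A k (N ⧸ mA) := htor.isScalarTower
  let bas := Module.Basis.ofVectorSpace k (N ⧸ mA)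
  choose e he using fun b => Submodule.Quotient.mk_surjective mA (bas b)
  let E : ((Module.Basis.ofVectorSpaceIndex k (N ⧸ mA)) →₀ A) →ₗ[A] N := Finsupp.linearCombination A e
  have hsurj : Function.Surjective E := by
    rw [← LinearMap.range_eq_top, eq_top_iff]
    have h1 : (⊤ : Submodule A N) ≤ LinearMap.range E ⊔ mA := by
      intro y _
      have h0 := bas.linearCombination_repr (Submodule.Quotient.mk y)
      choose g hg using fun b => residue_surjective (bas.repr (Submodule.Quotient.mk y) b)
      let f : (Module.Basis.ofVectorSpaceIndex k (N ⧸ mA)) →₀ A :=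
        Finsupp.onFinset (bas.repr (Submodule.Quotient.mk y)).support
          (fun b => if b ∈ (bas.repr (Submodule.Quotient.mk y)).support then g b else 0) fun b hb => by
            by_contra hb'; exact hb (if_neg hb')
      have hdiff : y - E f ∈ mA := by
        rw [← Submodule.Quotient.eq, show E f = ∑ b ∈ (bas.repr (Submodule.Quotient.mk y)).support, f b • e b from
          Finsupp.linearCombination_apply_of_mem_supported A
            (Finsupp.mem_supported' A f |>.2 fun b hb => if_neg hb)]
        show _ = mA.mkQ _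
        rw [map_sum]
        refine h0.symm.trans ?_
        rw [Finsupp.linearCombination_apply, Finsupp.sum]
        refine Finset.sum_congr rfl fun b hb => ?_
        rw [map_smul, Submodule.mkQ_apply, he, ← hg b, Finsupp.onFinset_apply, if_pos hb]
        rfl
      have := add_mem (Submodule.mem_sup_left ⟨f, rfl⟩ : E f ∈ LinearMap.range E ⊔ mA) (Submodule.mem_sup_right hdiff)
      rwa [add_sub_cancel] at this
    obtain ⟨n, hn⟩ := IsArtinianRing.isNilpotent_jacobson_bot (R := A)
    have h2 : ∀ j : ℕ, (⊤ : Submodule A N) ≤ LinearMap.range E ⊔ maximalIdeal A ^ j • ⊤ := by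
      intro j
      induction j with
      | zero => simp
      | succ j ih =>
        refine h1.trans (sup_le le_sup_left ?_)
        refine (Submodule.smul_mono le_rfl ih).trans ?_
        rw [Submodule.smul_sup, pow_succ', Submodule.mul_smul]
        exact sup_le (le_sup_of_le_left Submodule.smul_le_right) le_sup_right
    have h3 := h2 n
    rw [jacobson_eq_maximalIdeal ⊥ bot_ne_top] at hn
    rw [hn] at h3
    simpa using h3
  have hinj : Function.Injective E := by
    rw [injective_iff_map_eq_zero]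
    intro f hf
    let κ := {b // b ∈ f.support}
    obtain ⟨⟨s, hs⟩, hsint⟩ := IsLocalizedModule.exist_integer_multiples q.primeCompl
      (LocalizedModule.mkLinearMap q.primeCompl M) f.support e
    choose m₀ hm₀ using fun b : κ => hsint b.1 b.2
    obtain ⟨u, hu⟩ := IsLocalization.map_units (Localization.AtPrime q) (M := q.primeCompl) ⟨s, hs⟩
    have hmk : ∀ a : κ → A, LocalizedModule.mkLinearMap q.primeCompl M (∑ b, a b • m₀ b) =
        s • ∑ b : κ, a b • e b.1 := by
      intro a
      rw [map_sum, Finset.smul_sum]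
      refine Finset.sum_congr rfl fun b _ => ?_
      rw [LinearMap.map_smul_of_tower, hm₀ b, smul_comm]
    have hsum : ∑ b : κ, f b.1 • e b.1 = 0 := by
      rw [← hf, Finsupp.linearCombination_apply, Finsupp.sum, ← Finset.sum_attach f.support]
      rfl
    obtain ⟨⟨s', hs'⟩, h0⟩ := (IsLocalizedModule.eq_zero_iff q.primeCompl
      (LocalizedModule.mkLinearMap q.primeCompl M)).1 (show LocalizedModule.mkLinearMap q.primeCompl M
        (∑ b, f b.1 • m₀ b) = 0 by rw [hmk, hsum, smul_zero])
    obtain ⟨u', hu'⟩ := IsLocalization.map_units (Localization.AtPrime q) (M := q.primeCompl) ⟨s', hs'⟩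
    have hind : ∀ a : κ → A, LocalizedModule.mkLinearMap q.primeCompl M (∑ b, a b • (s' • m₀ b)) ∈ mA →
        ∀ b, a b ∈ maximalIdeal A := by
      intro a h1 b₀
      have h2 : ∑ b : κ, a b • e b.1 ∈ mA := by
        have h3 : ∀ (w : Localization.AtPrime q) (y : N), y ∈ mA → w • y ∈ mA := fun w y hy => by
          refine Submodule.smul_induction_on hy (fun c hc v _ => ?_) fun v v' hv hv' => by
            rw [smul_add]; exact add_mem hv hv'
          rw [smul_comm]
          exact Submodule.smul_mem_smul hc trivial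
        have h4 : LocalizedModule.mkLinearMap q.primeCompl M (∑ b, a b • (s' • m₀ b)) =
            algebraMap T (Localization.AtPrime q) (s' * s) • ∑ b : κ, a b • e b.1 := by
          rw [show ∑ b, a b • (s' • m₀ b) = s' • ∑ b, a b • m₀ b by
            rw [Finset.smul_sum]; exact Finset.sum_congr rfl fun b _ => smul_comm _ _ _,
            map_smul, hmk, ← mul_smul, algebraMap_smul]
        rw [h4] at h1
        have h5 := h3 ((↑u'⁻¹ : Localization.AtPrime q) * ↑u⁻¹) _ h1
        rw [← mul_smul, map_mul, ← hu, ← hu', show ((↑u'⁻¹ : Localization.AtPrime q) * ↑u⁻¹) * (↑u' * ↑u) = 1 by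
          rw [mul_comm (↑u' : Localization.AtPrime q), mul_assoc, Units.inv_mul_cancel_left, Units.inv_mul], one_smul] at h5
        exact h5
      have h6 : ∑ b : κ, residue A (a b) • bas b.1 = 0 := by
        rw [← Submodule.Quotient.mk_eq_zero mA, ← Submodule.mkQ_apply, map_sum] at h2
        rw [← h2]
        exact Finset.sum_congr rfl fun b _ => by rw [map_smul, Submodule.mkQ_apply, he]; rfl
      exact (residue_eq_zero_iff _).1 (linearIndependent_iff'.1
        (bas.linearIndependent.comp (fun b : κ => b.1) Subtype.val_injective) Finset.univ _ h6 b₀ (Finset.mem_univ _))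
    have hrel : ∑ b, f b.1 • (s' • m₀ b) = 0 := by
      rw [← show s' • ∑ b, f b.1 • m₀ b = ∑ b, f b.1 • (s' • m₀ b) by
        rw [Finset.smul_sum]; exact Finset.sum_congr rfl fun b _ => (smul_comm _ _ _).symm]
      exact h0
    ext b
    by_cases hb : b ∈ f.support
    · exact hsep _ fun i => congrFun (map_coeff_eq_zero q A' T' (Tq := Localization.AtPrime q) (LocalizedModule.mkLinearMap q.primeCompl M) hflat (fun b => s' • m₀ b) hind _ hrel i) ⟨b, hb⟩
    · exact Finsupp.notMem_support_iff.1 hb
  exact Module.Flat.of_linearEquiv (LinearEquiv.ofBijective E ⟨hinj, hsurj⟩).symm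

end Main

end Groth.Agent.FlatDesc5
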