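import Groth.Agent.Lib.FlatH4.FlatAt
import Groth.Agent.S6883
import Mathlib.RingTheory.Localization.Integral
import Mathlib.RingTheory.Ideal.GoingUp
import Mathlib.RingTheory.IsTensorProduct

/-!
# Descent of flatness at a prime along integral extensions of the local ring of the base
-/

set_option autoImplicit false

universe u

open TensorProduct

namespace Groth.Agent.FlatDesc5

section Over

variable (R₀ S T T' : Type u) [CommRing R₀] [CommRing S] [CommRing T] [CommRing T'] [Algebra R₀ S]
  [Algebra R₀ T] [Algebra S T'] [Algebra T T'] [Algebra R₀ T'] [IsScalarTower R₀ S T']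
  [IsScalarTower R₀ T T'] [Algebra.IsPushout R₀ T S T']
  {M : Type u} [AddCommGroup M] [Module R₀ M] [Module T M] [IsScalarTower R₀ T M]

/-- Flatness at all primes over `q` gives the injectivity for the localization at `q`. -/
theorem lTensor_injective_of_over (q : Ideal T) [q.IsPrime]
    (hflat : ∀ (Q : Ideal T') [Q.IsPrime], Q.comap (algebraMap T T') = q →
      Module.Flat S (LocalizedModule Q.primeCompl (T' ⊗[T] M)))
    (hup : ∀ (Q' : Ideal T') [Q'.IsPrime], Q'.comap (algebraMap T T') ≤ q →
      ∃ (Q : Ideal T'), Q.IsPrime ∧ Q' ≤ Q ∧ Q.comap (algebraMap T T') = q)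
    (J : Ideal S) :
    Function.Injective
      ((J.subtype.restrictScalars R₀).lTensor (LocalizedModule q.primeCompl M)) := by
  haveI : Algebra.IsPushout R₀ S T T' := Algebra.IsPushout.symm inferInstance
  refine FlatH4.lTensor_localized_injective q.primeCompl (LocalizedModule.mkLinearMap q.primeCompl M)
    (J.subtype.restrictScalars R₀) fun x hx => ?_
  let c := Algebra.IsPushout.cancelBaseChange R₀ S T T' M
  let ξ : (T' ⊗[T] M) ⊗[S] J ≃ₗ[R₀] M ⊗[R₀] J :=
    ((TensorProduct.congr c (LinearEquiv.refl S J)).trans ((TensorProduct.comm S _ J).trans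
      (AlgebraTensorModule.cancelBaseChange R₀ S S J M))).restrictScalars R₀ ≪≫ₗ TensorProduct.comm R₀ J M
  have hξ : ∀ (m : M) (j : J), ξ.symm (m ⊗ₜ j) = ((1 : T') ⊗ₜ[T] m) ⊗ₜ[S] j := by
    intro m j
    rw [LinearEquiv.symm_apply_eq]
    simp only [ξ, c, LinearEquiv.trans_apply, LinearEquiv.restrictScalars_apply, TensorProduct.congr_tmul,
      LinearEquiv.refl_apply, TensorProduct.comm_tmul, Algebra.IsPushout.cancelBaseChange_tmul,
      AlgebraTensorModule.cancelBaseChange_tmul, one_smul]
  let y := ξ.symm x
  have hy : J.subtype.lTensor (T' ⊗[T] M) y = 0 := by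
    apply (TensorProduct.rid S _).injective
    apply c.injective
    rw [map_zero, map_zero]
    have key : ∀ x, c (TensorProduct.rid S (T' ⊗[T] M) (J.subtype.lTensor _ (ξ.symm x))) =
        TensorProduct.comm R₀ M S ((J.subtype.restrictScalars R₀).lTensor M x) := by
      intro x
      induction x using TensorProduct.induction_on with
      | zero => simp
      | add a b ha hb => simp only [map_add, ha, hb]
      | tmul m j =>
        rw [hξ, LinearMap.lTensor_tmul, TensorProduct.rid_tmul, map_smul,
          Algebra.IsPushout.cancelBaseChange_tmul]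
        simp [TensorProduct.smul_tmul']
    rw [key, hx, map_zero]
  have hsmul : ∀ (t : T) (x : M ⊗[R₀] J), ξ.symm (t • x) = algebraMap T T' t • ξ.symm x := by
    intro t x
    induction x using TensorProduct.induction_on with
    | zero => simp
    | add a b ha hb => simp only [smul_add, map_add, ha, hb]
    | tmul m j =>
      rw [TensorProduct.smul_tmul', hξ, hξ, TensorProduct.smul_tmul', TensorProduct.tmul_smul,
        algebraMap_smul]
  -- the annihilator upstairs
  let I : Ideal T' := (LinearMap.toSpanSingleton T' _ y).ker
  by_contra hne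
  push Not at hne
  have hdis : Disjoint (I : Set T') ((Algebra.algebraMapSubmonoid T' q.primeCompl : Submonoid T') : Set T') := by
    rw [Set.disjoint_left]
    rintro _ ht ⟨t, htq, rfl⟩
    refine hne t htq (ξ.symm.injective ?_)
    rw [hsmul, map_zero]
    exact ht
  obtain ⟨Q', hQ', hIQ', hd⟩ := Ideal.exists_le_prime_disjoint I _ hdis
  haveI := hQ'
  obtain ⟨Q, hQ, hle, hQq⟩ := hup Q' fun t ht => by_contra fun htq =>
    Set.disjoint_left.1 hd ht ⟨t, htq, rfl⟩
  haveI := hQ
  haveI := hflat Q hQq
  obtain ⟨s, hs, hsy⟩ := FlatH4.exists_smul_eq_zero_of_flat_localized Q J.subtype J.injective_subtype y hy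
  exact hs (hle (hIQ' hsy))

/-- Going up over the local ring at `q`. -/
theorem exists_prime_over_of_isIntegral (p : Ideal R₀) [p.IsPrime] (R : Type u) [CommRing R] [Algebra R₀ R]
    [IsLocalization.AtPrime R p] [Algebra R S] [IsScalarTower R₀ R S] [Algebra.IsIntegral R S]
    (q : Ideal T) [q.IsPrime] (hqp : q.comap (algebraMap R₀ T) = p)
    (Q' : Ideal T') [Q'.IsPrime] (hle : Q'.comap (algebraMap T T') ≤ q) :
    ∃ Q : Ideal T', Q.IsPrime ∧ Q' ≤ Q ∧ Q.comap (algebraMap T T') = q := by
  let Tq := Localization.AtPrime q
  let N := Algebra.algebraMapSubmonoid T' q.primeCompl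
  let L := Localization N
  letI : Algebra Tq L := localizationAlgebra q.primeCompl T'
  haveI : IsLocalization (Submonoid.map (algebraMap T T') q.primeCompl) L :=
    inferInstanceAs (IsLocalization N (Localization N))
  haveI : IsScalarTower T Tq L := IsScalarTower.of_algebraMap_eq fun t => by
    show _ = (IsLocalization.map L (algebraMap T T') q.primeCompl.le_comap_map) (algebraMap T Tq t)
    rw [IsLocalization.map_eq, IsScalarTower.algebraMap_apply T T' L]
  have hunit : ∀ r : p.primeCompl, IsUnit ((algebraMap T Tq).comp (algebraMap R₀ T) r) := fun r =>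
    IsLocalization.map_units Tq (M := q.primeCompl)
      ⟨algebraMap R₀ T r, fun h => r.2 (hqp.le h)⟩
  let ρ : R →+* Tq := IsLocalization.lift (M := p.primeCompl) hunit
  let ψ : S →+* L := (algebraMap T' L).comp (algebraMap S T')
  have hcomp : (algebraMap Tq L).comp ρ = ψ.comp (algebraMap R S) := by
    refine IsLocalization.ringHom_ext p.primeCompl ?_
    ext r
    show algebraMap Tq L (ρ (algebraMap R₀ R r)) = algebraMap T' L (algebraMap S T' (algebraMap R S (algebraMap R₀ R r)))
    rw [IsLocalization.lift_eq, RingHom.comp_apply, ← IsScalarTower.algebraMap_apply T Tq L,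
      IsScalarTower.algebraMap_apply T T' L, ← IsScalarTower.algebraMap_apply R₀ R S,
      ← IsScalarTower.algebraMap_apply R₀ S T', ← IsScalarTower.algebraMap_apply R₀ T T']
  have hT' : ∀ t' : T', IsIntegral Tq (algebraMap T' L t') := by
    intro t'
    refine IsBaseChange.inductionOn (Algebra.IsPushout.out : IsBaseChange T
      (IsScalarTower.toAlgHom R₀ S T').toLinearMap) t' (fun t' => IsIntegral Tq (algebraMap T' L t'))
      ?_ ?_ ?_ ?_
    · rw [map_zero]; exact isIntegral_zero
    · intro s
      exact (Algebra.IsIntegral.isIntegral (R := R) s).map_of_comp_eq ρ ψ hcomp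
    · intro t n hn
      rw [Algebra.smul_def, map_mul, ← IsScalarTower.algebraMap_apply T T' L,
        IsScalarTower.algebraMap_apply T Tq L]
      exact isIntegral_algebraMap.mul hn
    · intro a b ha hb
      rw [map_add]
      exact ha.add hb
  haveI : Algebra.IsIntegral Tq L := ⟨fun x => by
    obtain ⟨⟨a, ⟨_, t, ht, rfl⟩⟩, h⟩ := IsLocalization.surj N x
    obtain ⟨v, hv⟩ := IsLocalization.map_units Tq (M := q.primeCompl) ⟨t, ht⟩
    have h' : x * algebraMap Tq L v = algebraMap T' L a := by
      rw [← h, hv, ← IsScalarTower.algebraMap_apply T Tq L, IsScalarTower.algebraMap_apply T T' L]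
    have hx : x = algebraMap Tq L ↑v⁻¹ * algebraMap T' L a := by
      rw [← h', ← mul_left_comm, ← map_mul, Units.inv_mul, map_one, mul_one]
    rw [hx]
    exact isIntegral_algebraMap.mul (hT' a)⟩
  have hd : Disjoint (N : Set T') (Q' : Set T') := by
    rw [Set.disjoint_left]
    rintro _ ⟨t, ht, rfl⟩ h
    exact ht (hle h)
  let QL := Q'.map (algebraMap T' L)
  haveI : QL.IsPrime := IsLocalization.isPrime_of_isPrime_disjoint N L Q' inferInstance hd
  have hQL : QL.comap (algebraMap T' L) = Q' :=
    IsLocalization.comap_map_of_isPrime_disjoint N L inferInstance hd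
  obtain ⟨P, hPQ, hP, hPq⟩ := Ideal.exists_ideal_over_prime_of_isIntegral
    (IsLocalRing.maximalIdeal Tq) QL (IsLocalRing.le_maximalIdeal (Ideal.IsPrime.ne_top inferInstance))
  haveI := hP
  refine ⟨P.comap (algebraMap T' L), inferInstance, ?_, ?_⟩
  · rw [← hQL]; exact Ideal.comap_mono hPQ
  · rw [Ideal.comap_comap, ← IsScalarTower.algebraMap_eq, IsScalarTower.algebraMap_eq T Tq L,
      ← Ideal.comap_comap, hPq]
    exact IsLocalization.AtPrime.comap_maximalIdeal Tq q

/-- The module at `q`, tensored with an integral extension of the local ring of the base, is flat. -/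
theorem flat_tensor_of_over (p : Ideal R₀) [p.IsPrime] (R : Type u) [CommRing R] [Algebra R₀ R]
    [IsLocalization.AtPrime R p] [Algebra R S] [IsScalarTower R₀ R S] [Algebra.IsIntegral R S]
    (q : Ideal T) [q.IsPrime] (hqp : q.comap (algebraMap R₀ T) = p)
    [Module R (LocalizedModule q.primeCompl M)] [IsScalarTower R₀ R (LocalizedModule q.primeCompl M)]
    (hflat : ∀ (Q : Ideal T') [Q.IsPrime], Q.comap (algebraMap T T') = q →
      Module.Flat S (LocalizedModule Q.primeCompl (T' ⊗[T] M))) :
    Module.Flat S (S ⊗[R] LocalizedModule q.primeCompl M) := by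
  let N := LocalizedModule q.primeCompl M
  haveI : ∀ (P : Type u) [AddCommGroup P] [Module R P] [Module R₀ P] [IsScalarTower R₀ R P],
      CompatibleSMul R₀ R N P := fun P _ _ _ _ => IsLocalization.tensorProduct_compatibleSMul p.primeCompl R N P
  have hJ : ∀ J : Ideal S, Function.Injective ((J.subtype.restrictScalars R).lTensor N) := by
    intro J
    have h := lTensor_injective_of_over R₀ S T T' q hflat
      (fun Q' _ hle => exists_prime_over_of_isIntegral R₀ S T T' p R q hqp Q' hle) J
    let eJ := TensorProduct.equivOfCompatibleSMul R₀ R R N J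
    let eS := TensorProduct.equivOfCompatibleSMul R₀ R R N S
    intro a b hab
    apply eJ.injective
    apply h
    have key : ∀ x, (J.subtype.restrictScalars R₀).lTensor N (eJ x) =
        eS ((J.subtype.restrictScalars R).lTensor N x) := by
      intro x
      induction x using TensorProduct.induction_on with
      | zero => simp
      | add a b ha hb => simp only [map_add, ha, hb]
      | tmul m j => rfl
    rw [key, key, hab]
  refine Module.Flat.iff_rTensor_injective'.2 fun J => ?_
  intro a b hab
  apply (AlgebraTensorModule.cancelBaseChange R S S J N).injective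
  apply (TensorProduct.comm R J N).injective
  apply hJ J
  have key : ∀ z, (J.subtype.restrictScalars R).lTensor N (TensorProduct.comm R J N
      (AlgebraTensorModule.cancelBaseChange R S S J N z)) =
      TensorProduct.comm R S N (AlgebraTensorModule.cancelBaseChange R S S S N (J.subtype.rTensor _ z)) := by
    intro z
    induction z using TensorProduct.induction_on with
    | zero => simp
    | add a b ha hb => simp only [map_add, ha, hb]
    | tmul j y =>
      induction y using TensorProduct.induction_on with
      | zero => simp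
      | add a b ha hb => simp only [tmul_add, map_add, ha, hb]
      | tmul s n => simp
  rw [key, key, hab]


/-- Descent of flatness at a prime along a finite injective extension of the local ring of the base. -/
theorem flat_localized_of_over (p : Ideal R₀) [p.IsPrime] (R : Type u) [CommRing R] [Algebra R₀ R]
    [IsLocalization.AtPrime R p] [IsNoetherianRing R] [Algebra R S] [IsScalarTower R₀ R S]
    [Module.Finite R S] (hinj : Function.Injective (algebraMap R S))
    (q : Ideal T) [q.IsPrime] (hqp : q.comap (algebraMap R₀ T) = p)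
    (hflat : ∀ (Q : Ideal T') [Q.IsPrime], Q.comap (algebraMap T T') = q →
      Module.Flat S (LocalizedModule Q.primeCompl (T' ⊗[T] M))) :
    Module.Flat R₀ (LocalizedModule q.primeCompl M) := by
  haveI : IsNoetherianRing S := IsNoetherianRing.of_finite R S
  let N := LocalizedModule q.primeCompl M
  let Tq := Localization.AtPrime q
  have hunit : ∀ r : p.primeCompl, IsUnit ((algebraMap T Tq).comp (algebraMap R₀ T) r) := fun r =>
    IsLocalization.map_units Tq (M := q.primeCompl)
      ⟨algebraMap R₀ T r, fun h => r.2 (hqp.le h)⟩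
  let ρ : R →+* Tq := IsLocalization.lift (M := p.primeCompl) hunit
  letI : Module R N := Module.compHom N ρ
  haveI : IsScalarTower R₀ R N := IsScalarTower.of_algebraMap_smul fun r x => by
    show ρ (algebraMap R₀ R r) • x = r • x
    rw [IsLocalization.lift_eq, RingHom.comp_apply, algebraMap_smul, algebraMap_smul]
  haveI : Module.Flat S (S ⊗[R] N) := flat_tensor_of_over R₀ S T T' p R q hqp hflat
  haveI : Module.Flat R N := Groth.Agent.S6883.result R S hinj N
  haveI : Module.Flat R₀ R := IsLocalization.flat R p.primeCompl
  exact Module.Flat.trans R₀ R N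

end Over

end Groth.Agent.FlatDesc5
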